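import Groth.Agent.TildeLpull.Main
import Groth.Agent.DCohMore.RpushAcyc
import Groth.Prelude.Def_DTen4

/-!
# The derived direct image along a morphism of affine schemes is restriction of scalars
-/

set_option autoImplicit false
set_option linter.style.haveILetI false
set_option linter.unusedSectionVars false
set_option backward.isDefEq.respectTransparency false

universe u

open CategoryTheory Limits AlgebraicGeometry Opposite

attribute [local instance] HasDerivedCategory.standard

noncomputable section

namespace Groth.Agent.TildeRpush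

variable {A B : Type u} [CommRing A] [CommRing B] (φ : A →+* B)

/-- The morphism of affine schemes. -/
abbrev fA : Spec (CommRingCat.of B) ⟶ Spec (CommRingCat.of A) := Spec.map (CommRingCat.ofHom φ)

/-- Global sections of a direct image. -/
def pushΓIso : Scheme.Modules.pushforward (fA φ) ⋙ moduleSpecΓFunctor (R := CommRingCat.of A) ≅
    moduleSpecΓFunctor (R := CommRingCat.of B) ⋙ ModuleCat.restrictScalars φ :=
  (Functor.associator _ _ _).symm ≪≫
    Functor.isoWhiskerRight (pushforwardCompModulesSpecToSheafIso (CommRingCat.ofHom φ)) _ ≪≫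
      NatIso.ofComponents (fun M => Iso.refl _) (fun f => rfl)

theorem isQCoh_push_tilde (M : ModuleCat.{u} B) :
    IsIso (Scheme.Modules.fromTildeΓ (R := CommRingCat.of A)
      ((Scheme.Modules.pushforward (fA φ)).obj ((tilde.functor (CommRingCat.of B)).obj M))) := by
  haveI : ((tilde.functor (CommRingCat.of B)).obj M).IsQuasicoherent := inferInstanceAs (tilde (R := CommRingCat.of B) M).IsQuasicoherent
  haveI : IsIso (Scheme.Modules.fromTildeΓ (R := CommRingCat.of B) ((tilde.functor (CommRingCat.of B)).obj M)) :=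
    Scheme.Modules.isIso_fromTildeΓ_of_isQuasicoherent _
  exact isIso_fromTildeΓ_pushforward (CommRingCat.ofHom φ) _

/-- Direct images of associated sheaves. -/
def tildePushIso : tilde.functor (CommRingCat.of B) ⋙ Scheme.Modules.pushforward (fA φ) ≅
    ModuleCat.restrictScalars φ ⋙ tilde.functor (CommRingCat.of A) :=
  haveI : ∀ M, IsIso ((Functor.whiskerLeft (tilde.functor (CommRingCat.of B) ⋙ Scheme.Modules.pushforward (fA φ))
      (Scheme.Modules.fromTildeΓNatTrans (R := CommRingCat.of A))).app M) := fun M => isQCoh_push_tilde φ M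
  haveI : IsIso (Functor.whiskerLeft (tilde.functor (CommRingCat.of B) ⋙ Scheme.Modules.pushforward (fA φ))
      (Scheme.Modules.fromTildeΓNatTrans (R := CommRingCat.of A))) := NatIso.isIso_of_isIso_app _
  (asIso (Functor.whiskerLeft (tilde.functor (CommRingCat.of B) ⋙ Scheme.Modules.pushforward (fA φ))
      (Scheme.Modules.fromTildeΓNatTrans (R := CommRingCat.of A)))).symm ≪≫
    Functor.associator _ _ _ ≪≫
    Functor.isoWhiskerLeft (tilde.functor (CommRingCat.of B))
      ((Functor.associator _ _ _).symm ≪≫ Functor.isoWhiskerRight (pushΓIso φ) (tilde.functor (CommRingCat.of A)) ≪≫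
        Functor.associator _ _ _) ≪≫
    (Functor.associator _ _ _).symm ≪≫
    Functor.isoWhiskerRight (tilde.toTildeΓNatIso (R := CommRingCat.of B)).symm _ ≪≫
    Functor.leftUnitor _

variable [PreservesFiniteLimits (tilde.functor (CommRingCat.of A))]
  [PreservesFiniteLimits (tilde.functor (CommRingCat.of B))] [DCoh.HasRpush (fA φ)]

/-- Termwise direct image. -/
abbrev pushCx : CochainComplex (Spec (CommRingCat.of B)).Modules ℤ ⥤ CochainComplex (Spec (CommRingCat.of A)).Modules ℤ :=
  (Scheme.Modules.pushforward (fA φ)).mapHomologicalComplex (ComplexShape.up ℤ)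

instance additive_tilde (R : CommRingCat.{u}) : (tilde.functor R).Additive := Groth.Agent.TildeKFlat.additive_til R

/-- Termwise associated sheaves. -/
abbrev tCx (R : CommRingCat.{u}) : CochainComplex (ModuleCat.{u} R) ℤ ⥤ CochainComplex (Spec R).Modules ℤ :=
  (tilde.functor R).mapHomologicalComplex (ComplexShape.up ℤ)

theorem isIso_unit_tCx (K : CochainComplex (ModuleCat.{u} B) ℤ) :
    IsIso ((DCohLib.rpushUnit (fA φ)).app ((DCohLib.quotM _).obj ((tCx (CommRingCat.of B)).obj K))) :=
  have hq : ∀ n, Coh.IsQCoh (((tCx (CommRingCat.of B)).obj K).X n) := fun n =>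
    inferInstanceAs (tilde (R := CommRingCat.of B) (K.X n)).IsQuasicoherent
  DCohMore.isIso_rpushUnit_app_acyclic _ _ hq fun n =>
    haveI := hq n
    DCohMore.isAcyclicFor_affine _ _

set_option quotPrecheck false in
local notation "QA" => DerivedCategory.Q (C := Scheme.Modules (Spec (CommRingCat.of A)))

/-- Direct images on homotopy categories are computed termwise. -/
def pushKhIso : HomotopyCategory.quotient (Spec (CommRingCat.of B)).Modules (ComplexShape.up ℤ) ⋙ DCoh.pushKh (fA φ) ≅
    pushCx φ ⋙ QA :=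
  (Functor.associator _ _ _).symm ≪≫
    Functor.isoWhiskerRight ((Scheme.Modules.pushforward (fA φ)).mapHomotopyCategoryFactors _) _ ≪≫
    Functor.associator _ _ _ ≪≫ Functor.isoWhiskerLeft _ (DerivedCategory.quotientCompQhIso _)

/-- Left half of the comparison at the level of complexes. -/
def cxIso₁ : DerivedCategory.Q ⋙ DCoh.tildeD (CommRingCat.of B) ⋙ DCoh.Rpush (fA φ) ≅
    tCx (CommRingCat.of B) ⋙ HomotopyCategory.quotient _ (ComplexShape.up ℤ) ⋙ DCoh.pushKh (fA φ) :=
  haveI : (tilde.functor (CommRingCat.of B)).Additive := Groth.Agent.TildeKFlat.additive_til (CommRingCat.of B)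
  haveI : PreservesColimitsOfSize.{u, u} (tilde.functor (CommRingCat.of B)) :=
    (tilde.adjunction (R := CommRingCat.of B)).leftAdjoint_preservesColimits
  haveI : PreservesColimitsOfSize.{0, 0} (tilde.functor (CommRingCat.of B)) := preservesColimitsOfSize_shrink.{0, u, 0, u} _
  haveI : PreservesFiniteColimits (tilde.functor (CommRingCat.of B)) :=
    PreservesColimitsOfSize.preservesFiniteColimits _
  let T := tCx (CommRingCat.of B) ⋙ HomotopyCategory.quotient (Spec (CommRingCat.of B)).Modules (ComplexShape.up ℤ)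
  let qX := DerivedCategory.quotientCompQhIso (Spec (CommRingCat.of B)).Modules
  let e₀ : DerivedCategory.Q ⋙ DCoh.tildeD (CommRingCat.of B) ⋙ DCoh.Rpush (fA φ) ≅
      T ⋙ DerivedCategory.Qh ⋙ DCoh.Rpush (fA φ) :=
    (Functor.associator _ _ _).symm ≪≫
      Functor.isoWhiskerRight ((tilde.functor (CommRingCat.of B)).mapDerivedCategoryFactors ≪≫
        Functor.isoWhiskerLeft _ qX.symm ≪≫ (Functor.associator _ _ _).symm) _ ≪≫ Functor.associator _ _ _
  let e₁ : T ⋙ DerivedCategory.Qh ⋙ DCoh.Rpush (fA φ) ≅ T ⋙ DCoh.pushKh (fA φ) :=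
    haveI : ∀ K, IsIso ((Functor.whiskerLeft T (DCohLib.rpushUnit (fA φ))).app K) := fun K => isIso_unit_tCx φ K
    haveI := NatIso.isIso_of_isIso_app (Functor.whiskerLeft T (DCohLib.rpushUnit (fA φ)))
    (asIso (Functor.whiskerLeft T (DCohLib.rpushUnit (fA φ)))).symm
  e₀ ≪≫ e₁ ≪≫ Functor.associator _ _ _

/-- Commutation of the termwise functors. -/
def tCxPushIso : tCx (CommRingCat.of B) ⋙ pushCx φ ≅ DTen.resCx φ ⋙ tCx (CommRingCat.of A) :=
  NatIso.ofComponents (fun K => ((NatIso.mapHomologicalComplex (tildePushIso φ) (ComplexShape.up ℤ))).app K)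
    fun f => (NatIso.mapHomologicalComplex (tildePushIso φ) (ComplexShape.up ℤ)).hom.naturality f

/-- Right half of the comparison at the level of complexes. -/
def cxIso₂ : (DTen.resCx φ ⋙ tCx (CommRingCat.of A)) ⋙ QA ≅
    DerivedCategory.Q ⋙ DRing.restrictD φ ⋙ DCoh.tildeD (CommRingCat.of A) :=
  haveI : (tilde.functor (CommRingCat.of A)).Additive := Groth.Agent.TildeKFlat.additive_til (CommRingCat.of A)
  haveI : PreservesColimitsOfSize.{u, u} (tilde.functor (CommRingCat.of A)) :=
    (tilde.adjunction (R := CommRingCat.of A)).leftAdjoint_preservesColimits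
  haveI : PreservesColimitsOfSize.{0, 0} (tilde.functor (CommRingCat.of A)) := preservesColimitsOfSize_shrink.{0, u, 0, u} _
  haveI : PreservesFiniteColimits (tilde.functor (CommRingCat.of A)) :=
    PreservesColimitsOfSize.preservesFiniteColimits _
  Functor.associator _ _ _ ≪≫
    Functor.isoWhiskerLeft _ (tilde.functor (CommRingCat.of A)).mapDerivedCategoryFactors.symm ≪≫
    (Functor.associator _ _ _).symm ≪≫
    Functor.isoWhiskerRight (DTen.resFactors φ).symm _ ≪≫ Functor.associator _ _ _

/-- The comparison at the level of complexes. -/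
def cxIso : DerivedCategory.Q ⋙ DCoh.tildeD (CommRingCat.of B) ⋙ DCoh.Rpush (fA φ) ≅
    DerivedCategory.Q ⋙ DRing.restrictD φ ⋙ DCoh.tildeD (CommRingCat.of A) :=
  cxIso₁ φ ≪≫ Functor.isoWhiskerLeft _ (pushKhIso φ) ≪≫ (Functor.associator _ _ _).symm ≪≫
    Functor.isoWhiskerRight (tCxPushIso φ) _ ≪≫ cxIso₂ φ

/-- Derived direct image of tilde is tilde of restriction of scalars. -/
def tildeRpushIso : DCoh.tildeD (CommRingCat.of B) ⋙ DCoh.Rpush (fA φ) ≅
    DRing.restrictD φ ⋙ DCoh.tildeD (CommRingCat.of A) :=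
  Localization.liftNatIso DerivedCategory.Q (HomologicalComplex.quasiIso (ModuleCat.{u} B) (ComplexShape.up ℤ))
    (DerivedCategory.Q ⋙ DCoh.tildeD (CommRingCat.of B) ⋙ DCoh.Rpush (fA φ))
    (DerivedCategory.Q ⋙ DRing.restrictD φ ⋙ DCoh.tildeD (CommRingCat.of A)) _ _ (cxIso φ)

end Groth.Agent.TildeRpush
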